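import Mathlib

/-!
Iterated cores of a pair of conjugate subgroups.
-/

set_option autoImplicit false

namespace CfsgLib.ConjCores

variable {G : Type*} [Group G]

/-- The largest normal subgroup of `M` inside `H`, as a subgroup of `G`. -/
def coreIn (M H : Subgroup G) : Subgroup G := (H.subgroupOf M).normalCore.map M.subtype

lemma coreIn_le_left (M H : Subgroup G) : coreIn M H ≤ M := Subgroup.map_subtype_le _

lemma coreIn_le (M H : Subgroup G) : coreIn M H ≤ H := by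
  rintro _ ⟨x, hx, rfl⟩
  exact Subgroup.normalCore_le (H.subgroupOf M) hx

lemma conj_mem_coreIn {M H : Subgroup G} {m x : G} (hm : m ∈ M) (hx : x ∈ coreIn M H) :
    m * x * m⁻¹ ∈ coreIn M H := by
  obtain ⟨y, hy, rfl⟩ := hx
  refine ⟨⟨m, hm⟩ * y * ⟨m, hm⟩⁻¹, ?_, rfl⟩
  exact (Subgroup.normalCore_normal _).conj_mem y hy _

lemma le_coreIn {M H L : Subgroup G} (hM : L ≤ M) (hH : L ≤ H)
    (hn : ∀ m ∈ M, ∀ x ∈ L, m * x * m⁻¹ ∈ L) : L ≤ coreIn M H := by
  intro x hx
  refine ⟨⟨x, hM hx⟩, ?_, rfl⟩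
  intro m
  show (m : G) * x * (m : G)⁻¹ ∈ H
  exact hH (hn m m.2 x hx)

lemma map_coreIn (e : G ≃* G) (M H : Subgroup G) :
    (coreIn M H).map e.toMonoidHom = coreIn (M.map e.toMonoidHom) (H.map e.toMonoidHom) := by
  refine le_antisymm (le_coreIn (Subgroup.map_mono (coreIn_le_left M H))
    (Subgroup.map_mono (coreIn_le M H)) ?_) ?_
  · rintro _ ⟨m, hm, rfl⟩ _ ⟨x, hx, rfl⟩
    exact ⟨m * x * m⁻¹, conj_mem_coreIn hm hx, by simp⟩
  · intro x hx
    refine ⟨e.symm x, ?_, by simp⟩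
    have h : (coreIn (M.map e.toMonoidHom) (H.map e.toMonoidHom)).map e.symm.toMonoidHom
        ≤ coreIn M H := by
      refine le_coreIn ?_ ?_ ?_
      · rintro _ ⟨y, hy, rfl⟩
        obtain ⟨m, hm, rfl⟩ := coreIn_le_left _ _ hy
        simpa using hm
      · rintro _ ⟨y, hy, rfl⟩
        obtain ⟨m, hm, rfl⟩ := coreIn_le _ _ hy
        simpa using hm
      · rintro m hm _ ⟨y, hy, rfl⟩
        exact ⟨e m * y * (e m)⁻¹, conj_mem_coreIn ⟨m, hm, rfl⟩ hy, by simp⟩
    exact h ⟨x, hx, rfl⟩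

/-- The iterated cores. -/
def chain (M₁ M₂ : Subgroup G) : ℕ → Subgroup G × Subgroup G
  | 0 => (M₁, M₂)
  | i + 1 =>
    (coreIn M₁ ((chain M₁ M₂ i).1 ⊓ (chain M₁ M₂ i).2),
      coreIn M₂ ((chain M₁ M₂ i).1 ⊓ (chain M₁ M₂ i).2))

lemma chain_conj_mem (M₁ M₂ : Subgroup G) (i : ℕ) {m x : G} (hm : m ∈ M₁)
    (hx : x ∈ (chain M₁ M₂ i).1) : m * x * m⁻¹ ∈ (chain M₁ M₂ i).1 := by
  cases i with
  | zero => exact mul_mem (mul_mem hm hx) (inv_mem hm)
  | succ i => exact conj_mem_coreIn hm hx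

lemma chain_succ_fst (M₁ M₂ : Subgroup G) (i : ℕ) :
    (chain M₁ M₂ (i + 1)).1 = coreIn M₁ ((chain M₁ M₂ i).1 ⊓ (chain M₁ M₂ i).2) := rfl

lemma chain_succ_le (M₁ M₂ : Subgroup G) (i : ℕ) :
    (chain M₁ M₂ (i + 1)).1 ≤ (chain M₁ M₂ i).2 := by
  rw [chain_succ_fst]; exact (coreIn_le _ _).trans inf_le_right

lemma chain_one_le (M₁ M₂ : Subgroup G) : (chain M₁ M₂ 1).1 ≤ M₂ := chain_succ_le M₁ M₂ 0

lemma chain_fst_le (M₁ M₂ : Subgroup G) : ∀ i, (chain M₁ M₂ i).1 ≤ M₁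
  | 0 => le_rfl
  | _ + 1 => coreIn_le_left _ _

/-- If `n` conjugates `M` to the second member and `n * n ∈ M`, it conjugates the first chain
to the second one. -/
theorem chain_snd (M : Subgroup G) {n : G} (hn : n * n ∈ M) (i : ℕ) :
    (chain M (M.map (MulAut.conj n).toMonoidHom) i).2 =
      ((chain M (M.map (MulAut.conj n).toMonoidHom) i).1).map (MulAut.conj n).toMonoidHom := by
  induction i with
  | zero => rfl
  | succ i ih =>
    have key : ((chain M (M.map (MulAut.conj n).toMonoidHom) i).2).map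
        (MulAut.conj n).toMonoidHom = (chain M (M.map (MulAut.conj n).toMonoidHom) i).1 := by
      rw [ih, Subgroup.map_map]
      ext x
      constructor
      · rintro ⟨y, hy, rfl⟩
        have := chain_conj_mem M (M.map (MulAut.conj n).toMonoidHom) i hn hy
        convert this using 1
        simp [mul_assoc]
      · intro hx
        refine ⟨(n * n)⁻¹ * x * (n * n), ?_, ?_⟩
        · have := chain_conj_mem M (M.map (MulAut.conj n).toMonoidHom) i (inv_mem hn) hx
          rwa [inv_inv] at this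
        · simp [mul_assoc]
    show coreIn _ _ = (coreIn _ _).map _
    rw [map_coreIn, Subgroup.map_inf _ _ _ (MulAut.conj n).injective, key, ← ih, inf_comm]

end CfsgLib.ConjCores
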