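import Cfsg.Agent.Lib.Chev.RadicalCentralizer
import Cfsg.Agent.Lib.Chev.SimpleData
import Cfsg.Agent.Lib.Chev.TwistFinal
import Cfsg.Agent.Lib.ConjCores.Basic

/-!
Iterated cores for a maximal parabolic subgroup and its conjugate by a simple reflection.
-/

set_option autoImplicit false
set_option maxHeartbeats 400000

namespace CfsgLib.Chev

open Cfsg.Lie Matrix

namespace Tab

/-- Descend from `r` at level `j` to the simple root of `k`, reflecting in other nodes first. -/
noncomputable def dsc (T : Tab) (k : ℕ) : ℕ → ℕ → ℕ → Bool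
  | 0, _, _ => false
  | f + 1, r, j => if j = 1 ∧ r = T.simple k then true else
      match (List.range T.l).find? (fun i => decide (i ≠ k ∧ 0 < T.car i r)) with
      | some i => dsc T k f (T.refl i r) j
      | none => decide (2 ≤ j ∧ T.car k r = 1) && dsc T k f (T.refl k r) (j - 1)

/-- The only Cartan integer above one at `k` belongs to the simple root. -/
noncomputable def carLeOne (T : Tab) (k : ℕ) : Bool :=
  (List.range T.n).all fun r => decide (r = T.simple k) || decide (T.car k r ≤ 1)

/-- The roots of the radical of the maximal parabolic of `k`. -/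
noncomputable def radList (T : Tab) (k : ℕ) : List ℕ :=
  (posList T).filter fun r => decide (T.cor r k ≠ 0)

/-- The radical is of Heisenberg type with centre the root `θ`. -/
noncomputable def heisenberg (T : Tab) (k θ : ℕ) : Bool :=
  (T.radList k).all (fun r => decide (T.commTerms θ r = [])) &&
    (T.radList k).all fun r => decide (r = θ) || (T.radList k).any fun s => decide (s ≠ r) &&
      (decide (T.commTerms s r = [(θ, 1, 1, 1)]) || decide (T.commTerms s r = [(θ, -1, 1, 1)])) &&
        (T.radList k).all fun q => decide (q = r) || decide (q = s) ||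
          decide (T.commTerms s q = [])

theorem dsc_induction (T : Tab) (k : ℕ) {Q : ℕ → ℕ → Prop} (hbase : Q (T.simple k) 1)
    (hrefl : ∀ r i j, i < T.l → i ≠ k → Q (T.refl i r) j → Q r j)
    (hk : ∀ r j, 1 ≤ j → T.car k r = 1 → Q (T.refl k r) j → Q r (j + 1)) :
    ∀ f r j, dsc T k f r j = true → Q r j := by
  intro f
  induction f with
  | zero => intro r j h; simp [dsc] at h
  | succ f ih =>
    intro r j h
    rw [dsc] at h
    split at h
    · next e => obtain ⟨rfl, rfl⟩ := e; exact hbase
    split at h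
    · next i hi =>
      have h1 := List.find?_some hi
      have h2 := List.mem_range.1 (List.mem_of_find?_eq_some hi)
      simp only [decide_eq_true_eq] at h1
      exact hrefl r i j h2 h1.1 (ih _ _ h)
    · simp only [Bool.and_eq_true, decide_eq_true_eq] at h
      obtain ⟨j', rfl⟩ : ∃ j', j = j' + 1 := ⟨j - 1, by omega⟩
      exact hk r j' (by omega) h.1.2 (ih _ _ (by simpa using h.2))

end Tab

/-- The positive roots of weight at least `j` times that of the simple root of `k`. -/
def coreLevelSet {D : ChevalleyDatum} {T : Tab} {C : Tab.Cover} (h : Cert D T C) (k j : ℕ) : Set ℕ :=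
  {r | r < T.n ∧ (j : ℤ) * h.wt k (T.simple k) ≤ h.wt k r}

namespace Cert

variable {D : ChevalleyDatum} {T : Tab} {C : Tab.Cover} (h : Cert D T C)
include h

lemma wt_k_pos {k : ℕ} (hk : k < T.l) : 0 < h.wt k (T.simple k) := by
  have := h.wt_simple hk hk
  rwa [if_pos rfl] at this

lemma levelSet_pos {k j : ℕ} (hk : k < T.l) (hj : 1 ≤ j) {r : ℕ} (hr : r ∈ coreLevelSet h k j) :
    0 < h.wt k r := by
  have h1 := h.wt_k_pos hk
  have h2 : (1 : ℤ) ≤ j := by exact_mod_cast hj
  have := hr.2
  nlinarith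

lemma level_refl {k j : ℕ} (hk : k < T.l) (hcar : T.carLeOne k = true) (hj : 1 ≤ j) {r : ℕ}
    (hr : r ∈ coreLevelSet h k (j + 1)) : T.refl k r ∈ coreLevelSet h k j := by
  obtain ⟨hr, hw⟩ := hr
  have hc := h.wt_k_pos hk
  have hne : r ≠ T.simple k := by
    rintro rfl
    push_cast at hw
    have : (1 : ℤ) ≤ j := by exact_mod_cast hj
    nlinarith
  simp only [Tab.carLeOne, List.all_eq_true, List.mem_range, Bool.or_eq_true,
    decide_eq_true_eq] at hcar
  have h1 := (hcar r hr).resolve_left hne
  refine ⟨h.refl_lt hk hr, ?_⟩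
  rw [h.wt_refl hk hr]
  push_cast at hw
  nlinarith

variable {F : Type*} [Field F]

lemma parabolic_le_normalizer_level {k j : ℕ} (hk : k < T.l) (hj : 1 ≤ j) :
    D.parabolicSubgroup F {i | i ≠ k} ≤
      Subgroup.normalizer (gen D F (coreLevelSet h k j) : Set (GL D.Idx F)) := by
  rw [h.parabolic_eq]
  refine sup_le (h.diagonal_le_normalizer_gen fun r hr => hr.1) ?_
  rw [gen, Subgroup.closure_le]
  rintro _ ⟨r, hr, b, rfl⟩
  have hr' := h.parSet_lt hr
  have hr0 : 0 ≤ h.wt k r := by
    rcases hr with hr | hr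
    · exact h.wt_nonneg hk hr.2 hr.1
    · rw [(h.inRootSub_iff.1 hr).2 k hk (by simp)]
  suffices gen D F {r} ≤ Subgroup.normalizer (gen D F (coreLevelSet h k j) : Set (GL D.Idx F)) from
    this (X_mem_gen D (Set.mem_singleton r) b)
  refine le_normalizer_closure fun g hg a ha => ?_
  obtain ⟨z, rfl⟩ := (h.gen_singleton hr').1 hg
  obtain ⟨s, hs, u, rfl⟩ := ha
  by_cases e : s = r
  · subst e
    rw [h.X_inv hr', h.X_add hr', h.X_add hr']
    exact X_mem_gen D hs _
  · have hspos := h.levelSet_pos hk hj hs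
    refine h.X_conj_mem (S := coreLevelSet h k j) hr' hs.1 e (fun e' => ?_) hs (fun q hq => ?_) z u
    · rw [e', h.wt_neg hr'] at hspos
      omega
    · obtain ⟨a, b', -, hb, he⟩ := h.commTerms_wt hr' hs.1 hq
      refine ⟨h.commTerms_lt hr' hs.1 hq, ?_⟩
      rw [he k]
      have hb' : (1 : ℤ) ≤ b' := by exact_mod_cast hb
      have h3 : (0 : ℤ) ≤ a * h.wt k r := mul_nonneg (Int.natCast_nonneg a) hr0
      have := hs.2
      nlinarith

lemma X_mem_parabolic_of_pos {J : Set ℕ} {k r : ℕ} (hk : k < T.l) (hr : r < T.n)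
    (hp : 0 < h.wt k r) (t : F) : X D r t ∈ D.parabolicSubgroup F J :=
  Subgroup.mem_sup_left (h.X_mem_borel (h.pos_of_wt_pos hk hr hp) hr t)

lemma parabolic_le_grp (J : Set ℕ) : D.parabolicSubgroup F J ≤ D.group F := by
  rw [← h.normalizer_radical]; exact inf_le_right

lemma nS_not_mem_parabolic {k : ℕ} (hk : k < T.l) :
    nS D F k ∉ D.parabolicSubgroup F {i | i ≠ k} := by
  intro hm
  have hs := h.simple_lt hk
  have hrad : T.simple k ∈ radSet D T {i | i ≠ k} :=
    h.mem_radSet_iff.2 ⟨hs, k, hk, by simp, h.wt_k_pos hk⟩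
  obtain ⟨c, hc, e⟩ := h.Maps_nS (F := F) hk hs
  have h1 : X D (T.refl k (T.simple k)) (c * 1) ∈ gen D F (radSet D T {i | i ≠ k}) := by
    rw [← e 1, ← h.unipotentRadical_eq]
    refine (Subgroup.mem_normalizer_iff.1 (h.parabolic_le_normalizer _ hm) _).1 ?_
    rw [h.unipotentRadical_eq]
    exact X_mem_gen D hrad 1
  have h2 := (h.root_mem_of_X_mem (h.refl_lt hk hs) (mul_ne_zero hc one_ne_zero) h1).1.1
  rw [h.refl_simple hk] at h2
  have := (h.half_le_neg_iff hs).1 h2
  have := (h.simple_spec hk).1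
  omega

/-- The negative simple root element is outside the maximal parabolic. -/
lemma X_neg_not_mem_parabolic {k : ℕ} (hk : k < T.l)
    (hneg : ∀ t : F, X D (T.neg (T.simple k)) t ∈ D.parabolicSubgroup F {i | i ≠ k}) : False := by
  refine h.nS_not_mem_parabolic (F := F) hk ?_
  have hs := h.simple_lt hk
  have hp : ∀ t : F, X D (T.simple k) t ∈ D.parabolicSubgroup F {i | i ≠ k} := fun t =>
    h.X_mem_parabolic_of_pos hk hs (h.wt_k_pos hk) t
  rw [nS, h.simple_eq hk, nU, h.neg_eq hs]
  exact mul_mem (mul_mem (hp _) (hneg _)) (hp _)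

/-- An element of the radical centralized by `U` is a root element, in the Heisenberg case. -/
theorem eq_X_of_central (hconn : Connected T) {k₀ θ : ℕ} (hk₀ : k₀ < T.l)
    (hH : T.heisenberg k₀ θ = true) {g : GL D.Idx F} (hg : g ∈ D.posUnipotent F)
    (hc : ∀ x ∈ D.posUnipotent F, x * g * x⁻¹ = g) : ∃ a : F, g = X D θ a := by
  classical
  set J : Set ℕ := {i | i ≠ k₀} with hJ
  have hradU : gen D F (radSet D T J) ≤ D.posUnipotent F := h.gen_pos_le fun r hr => hr.1
  have hgR : g ∈ gen D F (radSet D T J) := by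
    refine h.centralizer_radical_le hconn ⟨k₀, hk₀, by simp [hJ]⟩
      (Subgroup.mem_sup_left (Subgroup.mem_sup_left hg)) fun x hx => ?_
    have h1 := hc x (hradU hx)
    calc g * x * g⁻¹ = (x * g * x⁻¹) * x * g⁻¹ := by rw [h1]
      _ = x := by group
  have hset : ∀ r, r ∈ T.radList k₀ ↔ r ∈ radSet D T J := by
    intro r
    simp only [Tab.radList, List.mem_filter, mem_posList, decide_eq_true_eq]
    constructor
    · rintro ⟨hr, hne⟩
      refine h.mem_radSet_iff.2 ⟨hr.2, k₀, hk₀, by simp [hJ], ?_⟩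
      exact lt_of_le_of_ne (h.wt_nonneg hk₀ hr.2 hr.1) fun e =>
        hne ((h.wt_eq_zero_iff hk₀ hr.2).1 e.symm)
    · intro hr
      obtain ⟨hr', i, hi, hiJ, hpos⟩ := h.mem_radSet_iff.1 hr
      obtain rfl : i = k₀ := by simpa [hJ] using hiJ
      exact ⟨hr.1, fun e => hpos.ne' ((h.wt_eq_zero_iff hi hr').2 e)⟩
  obtain ⟨c, rfl, hc0⟩ := h.exists_coords (fun r hr => hr.1) (h.commClosed_radSet J) hgR
  rw [h.prodX_filter (fun r => decide (T.cor r k₀ ≠ 0)) (posList T) c
    (fun r hr => (mem_posList.1 hr).2) (fun r hr he => hc0 r fun hrad => by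
      have := ((hset r).2 hrad)
      simp only [Tab.radList, List.mem_filter] at this
      rw [this.2] at he
      exact absurd he (by simp))] at hc ⊢
  change ∀ x ∈ D.posUnipotent F, x * prodX D (T.radList k₀) c * x⁻¹ = prodX D (T.radList k₀) c at hc
  change ∃ a : F, prodX D (T.radList k₀) c = X D θ a
  simp only [Tab.heisenberg, Bool.and_eq_true, Bool.or_eq_true, List.all_eq_true,
    List.any_eq_true, decide_eq_true_eq] at hH
  obtain ⟨hθc, hH⟩ := hH
  have hlt : ∀ r ∈ T.radList k₀, r ∈ posSet T := fun r hr => ((hset r).1 hr).1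
  have hnd : (T.radList k₀).Nodup := (sortedLT_posList (T := T)).nodup.filter _
  have hzero : ∀ r ∈ T.radList k₀, r ≠ θ → c r = 0 := by
    intro r hr hne
    obtain ⟨s, hs, ⟨hsr, hterm⟩, hrest⟩ := (hH r hr).resolve_left hne
    obtain ⟨e, he0, heq⟩ : ∃ e : ℤ, (e = 1 ∨ e = -1) ∧ T.commTerms s r = [(θ, e, 1, 1)] := by
      rcases hterm with ht | ht
      · exact ⟨1, Or.inl rfl, ht⟩
      · exact ⟨-1, Or.inr rfl, ht⟩
    have hs' := hlt s hs
    have hθn : θ < T.n := h.commTerms_lt (q := (θ, e, 1, 1)) hs'.2 (hlt r hr).2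
      (by rw [heq]; exact List.mem_singleton_self _)
    have hθpos : θ ∈ posSet T := by
      obtain ⟨a, b, ha, hb, hw⟩ := h.commTerms_wt (q := (θ, e, 1, 1)) hs'.2 (hlt r hr).2
        (by rw [heq]; exact List.mem_singleton_self _)
      refine ⟨h.pos_of_wt_pos hk₀ hθn ?_, hθn⟩
      obtain ⟨-, i, hi, hiJ, hpos⟩ := h.mem_radSet_iff.1 ((hset r).1 hr)
      obtain rfl : i = k₀ := by simpa [hJ] using hiJ
      simp only at hw
      rw [hw i]
      have h2 := h.wt_nonneg hi hs'.2 hs'.1
      have hb' : (1 : ℤ) ≤ b := by exact_mod_cast hb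
      have : (0 : ℤ) ≤ a * h.wt i s := mul_nonneg (Int.natCast_nonneg a) h2
      nlinarith
    -- conjugation by `x_s(1)` on each factor
    have hfac : ∀ q ∈ T.radList k₀, ∀ u : F, X D s 1 * X D q u * (X D s 1)⁻¹ =
        X D q u * (if q = r then X D θ ((e : F) * u) else 1) := by
      intro q hq u
      by_cases hqs : q = s
      · subst hqs
        rw [if_neg hsr, mul_one, h.X_inv hs'.2, h.X_add hs'.2, h.X_add hs'.2]
        ring_nf
      have hc' := h.X_conj (F := F) hs'.2 (hlt q hq).2 hqs (posSet_neg_ne h hs' (hlt q hq)) (-1) u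
      rw [_root_.neg_neg, ← h.X_inv hs'.2] at hc'
      rw [hc']
      congr 1
      by_cases hqr : q = r
      · subst hqr
        rw [if_pos rfl, heq]
        simp
      · rw [if_neg hqr, ((hrest q hq).resolve_left (by tauto))]
        simp
    have hcomm : ∀ q ∈ T.radList k₀, ∀ a u : F, Commute (X D θ a) (X D q u) := by
      intro q hq a u
      by_cases hqθ : q = θ
      · subst hqθ
        rw [Commute, SemiconjBy, h.X_add hθn, h.X_add hθn, add_comm]
      have hc' := h.X_conj (F := F) hθn (hlt q hq).2 hqθ (posSet_neg_ne h hθpos (hlt q hq)) (-a) u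
      rw [hθc q hq, List.map_nil, List.prod_nil, mul_one, _root_.neg_neg, ← h.X_inv hθn] at hc'
      exact mul_inv_eq_iff_eq_mul.1 hc'
    have key : ∀ L : List ℕ, L.Nodup → (∀ q ∈ L, q ∈ T.radList k₀) →
        X D s 1 * prodX D L c * (X D s 1)⁻¹ =
          prodX D L c * (if r ∈ L then X D θ ((e : F) * c r) else 1) := by
      intro L
      induction L with
      | nil => intros; simp [prodX]
      | cons q L ih =>
        intro hndL hsub
        obtain ⟨hqL, hndL'⟩ := List.nodup_cons.1 hndL
        have ih' := ih hndL' fun x hx => hsub x (List.mem_cons_of_mem _ hx)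
        have hcp : ∀ a : F, Commute (X D θ a) (prodX D L c) := fun a =>
          Commute.list_prod_right _ _ fun y hy => by
            obtain ⟨x, hx, rfl⟩ := List.mem_map.1 hy
            exact hcomm x (hsub x (List.mem_cons_of_mem _ hx)) a _
        have hq := hfac q (hsub q List.mem_cons_self) (c q)
        have e1 : prodX D (q :: L) c = X D q (c q) * prodX D L c := by simp [prodX]
        rw [e1, show X D s 1 * (X D q (c q) * prodX D L c) * (X D s 1)⁻¹ =
          (X D s 1 * X D q (c q) * (X D s 1)⁻¹) * (X D s 1 * prodX D L c * (X D s 1)⁻¹) by group,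
          hq, ih']
        by_cases hqr : q = r
        · subst hqr
          rw [if_pos rfl, if_neg hqL, if_pos List.mem_cons_self, mul_one, mul_assoc, mul_assoc,
            (hcp _).eq]
        · rw [if_neg hqr, mul_one, mul_assoc]
          simp [Ne.symm hqr]
    have h1 := key _ hnd fun q hq => hq
    rw [hc _ (by rw [h.posUnipotent_eq]; exact X_mem_gen D hs' 1), if_pos hr, eq_comm,
      mul_eq_left, h.X_eq_one_iff hθn] at h1
    refine (mul_eq_zero.1 h1).resolve_left ?_
    rcases he0 with rfl | rfl <;> simp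
  -- only `θ` is left
  have key2 : ∀ L : List ℕ, L.Nodup → (∀ q ∈ L, q ∈ T.radList k₀) →
      prodX D L c = if θ ∈ L then X D θ (c θ) else 1 := by
    intro L
    induction L with
    | nil => intros; simp [prodX]
    | cons q L ih =>
      intro hndL hsub
      obtain ⟨hqL, hndL'⟩ := List.nodup_cons.1 hndL
      have ih' := ih hndL' fun x hx => hsub x (List.mem_cons_of_mem _ hx)
      have e1 : prodX D (q :: L) c = X D q (c q) * prodX D L c := by simp [prodX]
      rw [e1, ih']
      by_cases hqθ : q = θ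
      · subst hqθ; simp [hqL]
      · rw [hzero q (hsub q List.mem_cons_self) hqθ, h.X_zero (hlt q (hsub q List.mem_cons_self)).2]
        simp [Ne.symm hqθ]
  have h2 := key2 _ hnd fun q hq => hq
  split_ifs at h2 with hm
  · exact ⟨c θ, h2⟩
  · by_cases hθn : θ < T.n
    · exact ⟨0, by rw [h2, h.X_zero hθn]⟩
    · refine ⟨0, ?_⟩
      rw [h2]
      refine Units.ext ?_
      rw [Units.val_one, h.coe_X]
      simp [ChevalleyDatum.x, h.nroots_eq, hθn]

end Cert

end CfsgLib.Chev
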