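import Cfsg.Agent.Lib.ConjCores.ChevCores

/-!
Conjugate maximal subgroups with nontrivial fifth iterated core and trivial sixth.
-/

set_option autoImplicit false
set_option maxHeartbeats 1600000

namespace CfsgLib.Chev

open Cfsg.Lie Matrix CfsgLib.ConjCores

namespace Cert

variable {D : ChevalleyDatum} {T : Tab} {C : Tab.Cover} (h : Cert D T C)
include h

/-- Over the field with two elements, conjugation by `n_i` maps `x_r(1)` to the reflected one. -/
lemma nS_conj_one {i r : ℕ} (hi : i < T.l) (hr : r < T.n) :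
    nS D (ZMod 2) i * X D r (1 : ZMod 2) * (nS D (ZMod 2) i)⁻¹ = X D (T.refl i r) 1 := by
  obtain ⟨c, hc, e⟩ := h.Maps_nS (F := ZMod 2) hi hr
  rw [e 1, mul_one]
  congr 1
  have h2 : ∀ z : ZMod 2, z ≠ 0 → z = 1 := by decide
  exact h2 c hc

theorem exists_cores (hconn : Connected T) (hperf : commutator ↥(D.group (ZMod 2)) = ⊤)
    {k k₀ θ : ℕ} (hk : k < T.l) (hk₀ : k₀ < T.l) (hθ : θ < T.n)
    (hcar : T.carLeOne k = true) (hdsc : T.dsc k 130 θ 6 = true)
    (hH : T.heisenberg k₀ θ = true) :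
    ∃ (M₁ M₂ : Subgroup ↥(D.group (ZMod 2))) (g : ↥(D.group (ZMod 2))),
      IsCoatom M₁ ∧ M₂ = M₁.map (MulAut.conj g).toMonoidHom ∧ M₁ ≠ M₂ ∧ M₁.normalCore = ⊥ ∧
        (chain M₁ M₂ 6).1 = ⊥ ∧ (chain M₁ M₂ 5).1 ≠ ⊥ := by
  classical
  set F := ZMod 2
  set J : Set ℕ := {i | i ≠ k} with hJ
  set M : Subgroup ↥(D.group F) := (D.parabolicSubgroup F J).subgroupOf (D.group F) with hMdef
  have hnmem : ∀ i, i < T.l → nS D F i ∈ D.group F := fun i hi =>
    h.monomial_le_group (h.nS_mem_monomial hi)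
  set n : ↥(D.group F) := ⟨nS D F k, hnmem k hk⟩ with hn
  set M₂ : Subgroup ↥(D.group F) := M.map (MulAut.conj n).toMonoidHom with hM₂
  have hs := h.simple_lt hk
  have hXneg : ¬ X D (T.neg (T.simple k)) (1 : F) ∈ D.parabolicSubgroup F J := by
    intro hm
    refine h.X_neg_not_mem_parabolic (F := F) hk fun t => ?_
    have ht : t = 0 ∨ t = 1 := by revert t; decide
    rcases ht with rfl | rfl
    · rw [h.X_zero (neg_lt (T := T) hs)]; exact one_mem _
    · exact hm
  have hkk : nS D F k * X D (T.simple k) (1 : F) * (nS D F k)⁻¹ = X D (T.neg (T.simple k)) 1 := by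
    rw [h.nS_conj_one hk hs, h.refl_simple hk]
  have hback : ∀ r < T.n, nS D F k * X D (T.refl k r) (1 : F) * (nS D F k)⁻¹ = X D r 1 := by
    intro r hr
    rw [h.nS_conj_one hk (h.refl_lt hk hr), h.refl_refl hk hr]
  have hn2 : n * n ∈ M := by
    rw [hMdef, Subgroup.mem_subgroupOf]
    exact Subgroup.mem_sup_left (Subgroup.mem_sup_right (h.nS_mul_self hk))
  have hsnd := chain_snd M hn2
  rw [← hM₂] at hsnd
  -- maximality
  have hMne : M ≠ ⊤ := by
    intro e
    have : n ∈ M := e ▸ Subgroup.mem_top n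
    exact h.nS_not_mem_parabolic (F := F) hk this
  have hco : IsCoatom M := by
    obtain ⟨P, hB, hN, hS⟩ := h.exists_bnPair (F := F)
    refine ⟨hMne, fun K hK => ?_⟩
    have hBM : P.B ≤ M := by
      rw [hB]; exact fun x hx => Subgroup.mem_sup_left (show (x : GL D.Idx F) ∈ _ from hx)
    have hSM : ∀ s ∈ P.S, s ≠ n → s ∈ M := by
      intro s hsS hne
      rw [hS] at hsS
      obtain ⟨i, hi, e⟩ := hsS
      rw [hMdef, Subgroup.mem_subgroupOf, e]
      exact h.nS_mem_parabolic hi (show i ≠ k from fun e' => hne (Subtype.ext (by rw [e, e', hn])))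
    have hKe := CfsgLib.BN.eq_parabolic_of_le (P := P) (hBM.trans hK.le)
    by_cases hnK : n ∈ K
    · refine top_le_iff.1 ?_
      rw [← P.sup_eq_top]
      refine sup_le (hBM.trans hK.le) ?_
      rw [← P.closure_sup]
      refine sup_le ((Subgroup.closure_le _).2 fun s hsS => ?_) (inf_le_left.trans (hBM.trans hK.le))
      by_cases e : s = n
      · rw [e]; exact hnK
      · exact hK.le (hSM s hsS e)
    · exfalso
      refine hK.not_ge (hKe.le.trans (sup_le hBM ((Subgroup.closure_le _).2 fun s hs' => ?_)))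
      exact hSM s hs'.1 fun e => hnK (e ▸ hs'.2)
  have hMne2 : M ≠ M₂ := by
    intro e
    refine hXneg ?_
    have h1 : (⟨X D (T.neg (T.simple k)) 1, h.X_mem_group (neg_lt (T := T) hs) 1⟩ :
        ↥(D.group F)) ∈ M₂ := by
      refine ⟨⟨X D (T.simple k) 1, h.X_mem_group hs 1⟩, ?_, ?_⟩
      · exact h.X_mem_parabolic_of_pos hk hs (h.wt_k_pos hk) 1
      · exact Subtype.ext (by simpa using hkk)
    rw [← e] at h1
    exact h1
  have hcore : M.normalCore = ⊥ := by
    have hsimple := (h.simple_group (F := F) hconn hperf (h.isSolvable_borel F)).1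
    rcases hsimple.eq_bot_or_eq_top_of_normal _ M.normalCore_normal with e | e
    · exact e
    · exact absurd (top_le_iff.1 (e ▸ M.normalCore_le)) hMne
  -- lower bound
  have hlow : ∀ i, 1 ≤ i → (gen D F (coreLevelSet h k (i + 1))).subgroupOf (D.group F) ≤
      (chain M M₂ i).1 := by
    have hstep : ∀ i, (∀ r ∈ coreLevelSet h k (i + 1), ∀ g : ↥(D.group F),
        (∃ t, (g : GL D.Idx F) = X D r t) → g ∈ (chain M M₂ i).1) →
        (gen D F (coreLevelSet h k (i + 2))).subgroupOf (D.group F) ≤ (chain M M₂ (i + 1)).1 := by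
      intro i ih
      have hgenM : (gen D F (coreLevelSet h k (i + 2))).subgroupOf (D.group F) ≤ M := by
        intro x hx
        refine (show gen D F (coreLevelSet h k (i + 2)) ≤ D.parabolicSubgroup F J from ?_) hx
        rw [gen, Subgroup.closure_le]
        rintro _ ⟨r, hr, t, rfl⟩
        exact h.X_mem_parabolic_of_pos hk hr.1 (h.levelSet_pos hk (by omega) hr) t
      refine le_coreIn hgenM ?_ fun m hm x hx =>
        (Subgroup.mem_normalizer_iff.1
          (h.parabolic_le_normalizer_level (F := F) hk (show 1 ≤ i + 2 by omega) hm) _).1 hx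
      intro x hx
      have hgen : ∀ y ∈ gen D F (coreLevelSet h k (i + 2)), ∀ hy : y ∈ D.group F,
          (⟨y, hy⟩ : ↥(D.group F)) ∈ (chain M M₂ i).1 ⊓ (chain M M₂ i).2 := by
        intro y hy
        induction hy using Subgroup.closure_induction with
        | mem y hy =>
          obtain ⟨r, hr, t, rfl⟩ := hy
          intro hy
          have ht : t = 0 ∨ t = 1 := by clear hy; revert t; decide
          rcases ht with rfl | rfl
          · have e1 : (⟨X D r (0 : F), hy⟩ : ↥(D.group F)) = 1 :=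
              Subtype.ext (h.X_zero hr.1)
            rw [e1]; exact one_mem _
          refine ⟨ih r ⟨hr.1, ?_⟩ _ ⟨1, rfl⟩, ?_⟩
          · have := hr.2
            have := h.wt_k_pos hk
            push_cast at *
            linarith
          · show _ ∈ (chain M M₂ i).2
            rw [hsnd i]
            refine ⟨⟨X D (T.refl k r) 1, h.X_mem_group (h.refl_lt hk hr.1) 1⟩,
              ih _ (h.level_refl hk hcar (by omega) hr) _ ⟨1, rfl⟩, Subtype.ext ?_⟩
            simpa using hback r hr.1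
        | one => intro _; exact one_mem _
        | mul a b ha hb iha ihb =>
          intro hab
          have hsub : gen D F (coreLevelSet h k (i + 2)) ≤ D.group F :=
            h.gen_le_group fun r hr => hr.1
          exact mul_mem (iha (hsub ha)) (ihb (hsub hb))
        | inv a ha iha =>
          intro hia
          have hsub : gen D F (coreLevelSet h k (i + 2)) ≤ D.group F :=
            h.gen_le_group fun r hr => hr.1
          exact inv_mem (iha (hsub ha))
      exact hgen _ hx x.2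
    intro i hi
    induction i, hi using Nat.le_induction with
    | base =>
      refine hstep 0 fun r hr g ⟨t, e⟩ => ?_
      show (g : GL D.Idx F) ∈ D.parabolicSubgroup F J
      rw [e]
      exact h.X_mem_parabolic_of_pos hk hr.1 (h.levelSet_pos hk le_rfl hr) t
    | succ i hi ih =>
      refine hstep i fun r hr g ⟨t, e⟩ => ih ?_
      rw [Subgroup.mem_subgroupOf, e]
      exact X_mem_gen D hr t
  -- the root `θ` has level six
  have hθ6 : (6 : ℤ) * h.wt k (T.simple k) = h.wt k θ := by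
    have := Tab.dsc_induction T k
      (Q := fun r j => r < T.n → (j : ℤ) * h.wt k (T.simple k) = h.wt k r)
      (fun _ => by simp) (fun r i j hi hne ih hr => ?_) (fun r j _ hc ih hr => ?_) _ _ _ hdsc hθ
    · exact_mod_cast this
    · rw [ih (h.refl_lt hi hr), h.wt_refl hi hr, h.wt_simple_of_ne hi hk hne, mul_zero, sub_zero]
    · have h1 := ih (h.refl_lt hk hr)
      rw [h.wt_refl hk hr, hc] at h1
      push_cast
      linarith
  have h5 : (chain M M₂ 5).1 ≠ ⊥ := by
    intro e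
    have hm : (⟨X D θ 1, h.X_mem_group hθ 1⟩ : ↥(D.group F)) ∈ (chain M M₂ 5).1 := by
      refine hlow 5 (by norm_num) ?_
      rw [Subgroup.mem_subgroupOf]
      refine X_mem_gen D (S := coreLevelSet h k (5 + 1)) ⟨hθ, ?_⟩ 1
      rw [← hθ6]; norm_num
    rw [e, Subgroup.mem_bot] at hm
    exact one_ne_zero ((h.X_eq_one_iff hθ (1 : F)).1 (congrArg Subtype.val hm))
  -- upper bound
  refine ⟨M, M₂, n, hco, rfl, hMne2, hcore, ?_, h5⟩
  by_contra h6
  have hno : ∀ g : ↥(D.group F), (g : GL D.Idx F) = X D θ 1 → g ∉ (chain M M₂ 6).1 := by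
    refine Tab.dsc_induction T k (Q := fun r j => r < T.n → ∀ g : ↥(D.group F),
      (g : GL D.Idx F) = X D r 1 → g ∉ (chain M M₂ j).1) ?_ ?_ ?_ _ _ _ hdsc hθ
    · intro _ g e hg
      have h1 : g ∈ M₂ := chain_one_le M M₂ hg
      obtain ⟨a, ha, e'⟩ := h1
      refine hXneg ?_
      have e2 : (a : GL D.Idx F) = X D (T.neg (T.simple k)) 1 := by
        have e3 := congrArg Subtype.val e'
        simp only [MulEquiv.coe_toMonoidHom, MulAut.conj_apply, Subgroup.coe_mul,
          Subgroup.coe_inv, hn, e] at e3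
        have e4 := hback (T.simple k) hs
        rw [h.refl_simple hk, ← e3] at e4
        exact (mul_left_cancel (mul_right_cancel e4)).symm
      rw [← e2]
      exact ha
    · intro r i j hi hne ih hr g e hg
      refine ih (h.refl_lt hi hr) (⟨nS D F i, hnmem i hi⟩ * g * ⟨nS D F i, hnmem i hi⟩⁻¹) ?_
        (chain_conj_mem M M₂ j ?_ hg)
      · simpa [e] using h.nS_conj_one hi hr
      · exact h.nS_mem_parabolic hi hne
    · intro r j _ _ ih hr g e hg
      have h1 : g ∈ (chain M M₂ j).2 := chain_succ_le M M₂ j hg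
      rw [hsnd j] at h1
      obtain ⟨a, ha, e'⟩ := h1
      refine ih (h.refl_lt hk hr) a ?_ ha
      have e3 := congrArg Subtype.val e'
      simp only [MulEquiv.coe_toMonoidHom, MulAut.conj_apply, Subgroup.coe_mul,
        Subgroup.coe_inv, hn, e] at e3
      have e4 := hback r hr
      rw [← e3] at e4
      exact (mul_left_cancel (mul_right_cancel e4)).symm
  -- a central element of `U` inside the sixth core
  obtain ⟨A₆, hA₆, hA₆le, hA₆conj⟩ : ∃ A : Subgroup ↥(D.group F), A = (chain M M₂ 6).1 ∧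
      A ≤ M ∧ ∀ m ∈ M, ∀ x ∈ A, m * x * m⁻¹ ∈ A :=
    ⟨_, rfl, chain_fst_le M M₂ 6, fun m hm x hx => chain_conj_mem M M₂ 6 hm hx⟩
  rw [← hA₆] at h6 hno
  clear hA₆
  set N : Subgroup (GL D.Idx F) := A₆.map (D.group F).subtype with hNdef
  have hNP : N ≤ D.parabolicSubgroup F J := by
    rintro _ ⟨x, hx, rfl⟩
    exact Subgroup.mem_subgroupOf.1 (hA₆le hx)
  have hNconj : ∀ p ∈ D.parabolicSubgroup F J, ∀ x ∈ N, p * x * p⁻¹ ∈ N := by
    rintro p hp _ ⟨x, hx, rfl⟩
    exact ⟨⟨p, h.parabolic_le_grp J hp⟩ * x * ⟨p, h.parabolic_le_grp J hp⟩⁻¹,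
      hA₆conj _ (Subgroup.mem_subgroupOf.2 hp) x hx, by simp⟩
  have hNne : N ≠ ⊥ := fun e => h6 ((Subgroup.map_eq_bot_iff_of_injective _
    (D.group F).subtype_injective).1 e)
  set U := gen D F (radSet D T J) with hU
  have hUQ : U ≤ D.posUnipotent F := h.gen_pos_le fun r hr => hr.1
  have hQP : D.posUnipotent F ≤ D.parabolicSubgroup F J := fun x hx =>
    Subgroup.mem_sup_left (Subgroup.mem_sup_left hx)
  have hPU : ∀ p ∈ D.parabolicSubgroup F J, ∀ x ∈ U, p * x * p⁻¹ ∈ U := by
    intro p hp x hx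
    rw [hU, ← h.unipotentRadical_eq] at hx ⊢
    exact (Subgroup.mem_normalizer_iff.1 (h.parabolic_le_normalizer J hp) x).1 hx
  have hNU : N ⊓ U ≠ ⊥ := by
    intro e
    refine hNne ((Subgroup.eq_bot_iff_forall _).2 fun g hg => ?_)
    have hgU : g ∈ U := by
      refine h.centralizer_radical_le hconn ⟨k, hk, by simp [hJ]⟩ (hNP hg) fun x hx => ?_
      have h1 : g * x * g⁻¹ * x⁻¹ ∈ N ⊓ U := by
        refine Subgroup.mem_inf.2 ⟨?_, mul_mem (hPU g (hNP hg) x hx) (inv_mem hx)⟩
        rw [show g * x * g⁻¹ * x⁻¹ = g * (x * g⁻¹ * x⁻¹) by group]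
        exact mul_mem hg (hNconj x (hQP (hUQ hx)) _ (inv_mem hg))
      rw [e, Subgroup.mem_bot] at h1
      exact mul_inv_eq_one.1 h1
    have : g ∈ N ⊓ U := Subgroup.mem_inf.2 ⟨hg, hgU⟩
    rwa [e, Subgroup.mem_bot] at this
  set Q := D.posUnipotent F with hQ
  have hQp : IsPGroup 2 ↥Q := IsPGroup.of_card (n := T.half) (by
    rw [hQ, h.card_posUnipotent, ZMod.card])
  set H : Subgroup ↥Q := (N ⊓ U).subgroupOf Q with hHdef
  have hHn : H.Normal := ⟨fun x hx q => by
    obtain ⟨h1, h2⟩ := Subgroup.mem_inf.1 hx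
    exact Subgroup.mem_inf.2 ⟨hNconj q (hQP q.2) _ h1, hPU q (hQP q.2) _ h2⟩⟩
  have hHne : H ≠ ⊥ := fun e => hNU (by
    have := Subgroup.map_subgroupOf_eq_of_le (H := N ⊓ U) (K := Q) (inf_le_right.trans hUQ)
    rw [← hHdef, e, Subgroup.map_bot] at this
    exact this.symm)
  have hH2 : 2 ∣ Nat.card ↥H := by
    obtain ⟨m, hm⟩ := IsPGroup.iff_card.1 (hQp.to_subgroup H)
    rcases Nat.eq_zero_or_pos m with rfl | hm'
    · exact absurd (Subgroup.eq_bot_of_card_eq _ (by simpa using hm)) hHne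
    · rw [hm]; exact dvd_pow_self 2 hm'.ne'
  have hQc : IsPGroup 2 (ConjAct ↥Q) := hQp
  have hone : (1 : ↥H) ∈ MulAction.fixedPoints (ConjAct ↥Q) ↥H := fun q => by simp
  obtain ⟨b, hb, hb1⟩ := hQc.exists_fixed_point_of_prime_dvd_card_of_fixed_point ↥H hH2 hone
  obtain ⟨hbN, -⟩ := Subgroup.mem_inf.1 (Subgroup.mem_subgroupOf.1 b.2)
  obtain ⟨a, ha⟩ := h.eq_X_of_central hconn hk₀ hH (b : ↥Q).2 fun x hx => by
    have := congrArg (fun z : ↥H => ((z : ↥Q) : GL D.Idx F)) (hb (ConjAct.toConjAct ⟨x, hx⟩))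
    simpa [ConjAct.Subgroup.val_conj_smul, ConjAct.smul_def] using this
  rw [ha] at hbN
  obtain ⟨g, hg, eg⟩ := hbN
  have ha1 : a = 1 := by
    have h0 : a = 0 ∨ a = 1 := by clear ha eg; revert a; decide
    refine h0.resolve_left fun e0 => hb1 ?_
    rw [e0, h.X_zero hθ] at ha
    exact Subtype.ext (Subtype.ext ha.symm)
  rw [ha1] at eg
  exact hno g eg hg

end Cert

theorem exists_conjugate_maximal_cores :
    ∃ (G : Type) (_ : Group G) (_ : Finite G) (M₁ M₂ : Subgroup G) (g : G)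
      (A B : ℕ → Subgroup G),
      IsCoatom M₁ ∧ M₂ = M₁.map (MulAut.conj g).toMonoidHom ∧ M₁ ≠ M₂ ∧ M₁.normalCore = ⊥ ∧
      A 0 = M₁ ∧ B 0 = M₂ ∧
      (∀ i, A (i + 1) = ((A i ⊓ B i).subgroupOf M₁).normalCore.map M₁.subtype) ∧
      (∀ i, B (i + 1) = ((A i ⊓ B i).subgroupOf M₂).normalCore.map M₂.subtype) ∧
      A 6 = ⊥ ∧ A 5 ≠ ⊥ := by
  obtain ⟨M₁, M₂, g, h1, h2, h3, h4, h5, h6⟩ := certE8.exists_cores connectedE8
    (perfectE8 (F := ZMod 2)) (k := 3) (k₀ := 7) (θ := 239) (by decide +kernel) (by decide +kernel)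
    (by decide +kernel) (by decide +kernel) (by decide +kernel) (by decide +kernel)
  exact ⟨_, inferInstance, inferInstance, M₁, M₂, g, fun i => (chain M₁ M₂ i).1,
    fun i => (chain M₁ M₂ i).2, h1, h2, h3, h4, rfl, rfl, fun _ => rfl, fun _ => rfl, h5, h6⟩

end CfsgLib.Chev
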